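import Mathlib

/-!
# The trace on the invariants of a group which permutes a system of imprimitivity (helper9)
-/

set_option autoImplicit false
set_option linter.unusedSectionVars false

namespace Cfsg.Agent.PQ.Wl

open Module
open LinearMap (trace)

theorem glue {S H I R : Type} [AddCommGroup S] [Module ℂ S] [FiniteDimensional ℂ S] [Fintype H] [Group R] [Fintype R]
    (u ui : H → End ℂ S) (p a : End ℂ S) (q : I → End ℂ S) (im : H → I) (good : I → Prop) (ρ : R → End ℂ S)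
    (β : R → H ≃ H) (σ : H ≃ H) (τ : I → I) (J : Finset I)
    (hρ : ∀ r r', ρ (r * r') = ρ r * ρ r')
    (res : ∑ φ, u φ * p * ui φ = 1)
    (kill : ∀ φ, ¬ good (im φ) → ∃ r, ∃ t : ℂ, t ≠ 1 ∧ ρ r * (u φ * p) = t • (u φ * p))
    (ins : ∀ φ, good (im φ) → ∀ l : End ℂ S, (∀ r, l * ρ r = l) → l * (u φ * p) * q (im φ) = l * (u φ * p))
    (hβ : ∀ r φ, im (β r φ) = im φ)
    (mv : ∀ r φ, good (im φ) → ρ r * (u φ * p * q (im φ)) = u (β r φ) * p * q (im φ))
    (tr : ∀ φ φ', good (im φ) → im φ' = im φ → ∃ r, β r φ = φ')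
    (hσ : ∀ φ, im (σ φ) = τ (im φ))
    (fin : ∀ φ φ', good (im φ) → im φ' = im φ → trace ℂ S (a * (u φ' * p * q (im φ)) * ui φ) =
      haveI := Classical.decEq H; if σ φ' = φ then trace ℂ S (a * p * q (im φ)) else 0)
    (hJ : ∀ T, T ∈ J ↔ good T ∧ (∃ φ, im φ = T) ∧ τ T = T) (hτ : Function.Injective τ) :
    ∑ r, trace ℂ S (a * ρ r) = Fintype.card R * ∑ T ∈ J, trace ℂ S (a * p * q T) := by
  classical
  set P := ∑ r, ρ r with hP
  have h1 : ∀ r, P * ρ r = P := fun r => by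
    rw [hP, Finset.sum_mul, ← Equiv.sum_comp (Equiv.mulRight r) ρ]
    exact Finset.sum_congr rfl fun r' _ => (hρ _ _).symm
  let n : I → ℕ := fun T => (Finset.univ.filter fun φ => im φ = T).card
  have hn : ∀ φ, (n (im φ) : ℂ) ≠ 0 := fun φ => Nat.cast_ne_zero.2 (Finset.card_pos.2 ⟨φ, by simp⟩).ne'
  have h2 : ∀ φ, good (im φ) → (n (im φ) : ℂ) • (P * (u φ * p)) =
      (Fintype.card R : ℂ) • ∑ φ' with im φ' = im φ, u φ' * p * q (im φ) := fun φ hφ => by
    have h3 : ∀ r, ρ r * ∑ φ' with im φ' = im φ, u φ' * p * q (im φ) = ∑ φ' with im φ' = im φ, u φ' * p * q (im φ) :=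
      fun r => by
        rw [Finset.mul_sum]
        refine Finset.sum_equiv (β r) (fun φ' => by simp [hβ]) fun φ' h => ?_
        rw [← (Finset.mem_filter.1 h).2] at hφ ⊢
        exact mv r φ' hφ
    rw [Nat.cast_smul_eq_nsmul, Nat.cast_smul_eq_nsmul, ← Finset.card_univ, ← Finset.sum_const, ← Finset.sum_const,
      ← Finset.sum_congr rfl fun r _ => h3 r, ← Finset.sum_mul Finset.univ ρ, Finset.mul_sum]
    refine Finset.sum_congr rfl fun φ' h => ?_
    obtain ⟨r, rfl⟩ := tr φ φ' hφ (Finset.mem_filter.1 h).2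
    rw [← mv r φ hφ, ← mul_assoc P (ρ r), h1, ← mul_assoc P _ (q _), ins φ hφ P h1]
  have h3 : ∀ φ, trace ℂ S (a * (P * (u φ * p)) * ui φ) =
      if im φ ∈ J then Fintype.card R * ((n (im φ) : ℂ)⁻¹ * trace ℂ S (a * p * q (im φ))) else 0 := fun φ => by
    by_cases hφ : good (im φ)
    · rw [← inv_smul_smul₀ (hn φ) (P * _), h2 φ hφ, mul_smul_comm, mul_smul_comm, smul_mul_assoc, smul_mul_assoc, map_smul,
        map_smul, Finset.mul_sum, Finset.sum_mul, map_sum,
        Finset.sum_congr rfl fun φ' h => fin φ φ' hφ (Finset.mem_filter.1 h).2]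
      simp only [← Equiv.eq_symm_apply, Finset.sum_ite_eq', Finset.mem_filter, Finset.mem_univ, true_and, smul_eq_mul]
      have h4 : im (σ.symm φ) = im φ ↔ im φ ∈ J := by
        rw [hJ, ← hτ.eq_iff, ← hσ, σ.apply_symm_apply]
        exact ⟨fun h => ⟨hφ, ⟨φ, rfl⟩, h.symm⟩, fun h => h.2.2.symm⟩
      simp only [h4]
      split_ifs
      · ring
      · simp
    · obtain ⟨r, t, ht, h4⟩ := kill φ hφ
      have h5 := congrArg (P * ·) h4
      simp only [← mul_assoc P (ρ r), h1, mul_smul_comm] at h5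
      rw [← sub_eq_zero, ← one_smul ℂ (P * (u φ * p)), smul_smul, ← sub_smul, mul_one] at h5
      rw [(smul_eq_zero.1 h5).resolve_left (sub_ne_zero.2 ht.symm), if_neg fun h => hφ ((hJ _).1 h).1]
      simp
  rw [← map_sum, ← Finset.mul_sum, ← mul_one (a * _), ← res, Finset.mul_sum, map_sum,
    Finset.sum_congr rfl (g := fun φ => trace ℂ S (a * (P * (u φ * p)) * ui φ)) fun φ _ => by simp only [mul_assoc, hP],
    Finset.sum_congr rfl fun φ _ => h3 φ, ← Finset.sum_filter, Finset.mul_sum,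
    ← Finset.sum_fiberwise_of_maps_to (g := im) (t := J) fun φ h => (Finset.mem_filter.1 h).2]
  refine Finset.sum_congr rfl fun T hT => ?_
  obtain ⟨φ, rfl⟩ := ((hJ T).1 hT).2.1
  rw [Finset.sum_congr rfl (g := fun _ => Fintype.card R * ((n (im φ) : ℂ)⁻¹ * trace ℂ S (a * p * q (im φ)))) fun φ' h => by
    rw [(Finset.mem_filter.1 h).2], Finset.sum_const, Finset.filter_filter,
    Finset.filter_congr (q := fun φ' => im φ' = im φ) fun φ' _ => ⟨fun h => h.2, fun h => ⟨h ▸ hT, h⟩⟩, nsmul_eq_mul,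
    mul_left_comm, mul_inv_cancel_left₀ (hn φ)]

end Cfsg.Agent.PQ.Wl
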